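import Groth.Prelude.Def_AlgGrp
import Groth.Prelude.Def_Red
import Groth.Agent.HomRep.Local
import Groth.Agent.SchDenseLib.Basic
import Groth.Agent.IntImage.Spread
import Groth.Agent.S0414

/-! A closed subgroup of the generic fibre spreads out to a flat closed subgroup over an open of the base. -/

set_option autoImplicit false
set_option backward.isDefEq.respectTransparency false
set_option backward.isDefEq.respectTransparency.types false
set_option linter.style.haveILetI false
set_option maxHeartbeats 2000000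
set_option synthInstance.maxHeartbeats 100000

universe u

open CategoryTheory CategoryTheory.Limits MonoidalCategory CartesianMonoidalCategory MonObj GrpObj AlgebraicGeometry

noncomputable section

namespace Groth.Agent.SubgrpSpreadLib

/-- A monomorphism closed under the group operations carries a group structure. -/
theorem exists_grpObj_of_mono {C : Type*} [Category C] [CartesianMonoidalCategory C] {N G : C} [GrpObj G] (i : N ⟶ G)
    [Mono i] (h1 : ∃ e : 𝟙_ C ⟶ N, e ≫ i = 1)
    (hmul : ∃ m : N ⊗ N ⟶ N, m ≫ i = (fst N N ≫ i) * (snd N N ≫ i))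
    (hinv : ∃ v : N ⟶ N, v ≫ i = i⁻¹) :
    ∃ (_ : GrpObj N), IsMonHom i := by
  obtain ⟨e, he⟩ := h1
  obtain ⟨m, hm⟩ := hmul
  obtain ⟨v, hv⟩ := hinv
  have hone : ∀ {T : C} (a : T ⟶ 𝟙_ C), a ≫ e ≫ i = 1 := fun a => by rw [he, MonObj.comp_one]
  letI mon : MonObj N :=
    { one := e
      mul := m
      one_mul := by
        rw [← cancel_mono i, Category.assoc, hm, MonObj.comp_mul, whiskerRight_fst_assoc, whiskerRight_snd_assoc,
          hone, _root_.one_mul, leftUnitor_hom]
      mul_one := by
        rw [← cancel_mono i, Category.assoc, hm, MonObj.comp_mul, whiskerLeft_fst_assoc, whiskerLeft_snd_assoc,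
          hone, _root_.mul_one, rightUnitor_hom]
      mul_assoc := by
        rw [← cancel_mono i]
        simp only [Category.assoc, hm, MonObj.comp_mul, whiskerRight_fst_assoc, whiskerRight_snd_assoc,
          whiskerLeft_fst_assoc, whiskerLeft_snd_assoc, associator_hom_fst_assoc, associator_hom_snd_fst_assoc,
          associator_hom_snd_snd_assoc, _root_.mul_assoc] }
  haveI hmon : IsMonHom i := ⟨he.trans (by rw [Hom.one_def, toUnit_unique (toUnit (𝟙_ C)) (𝟙 _), Category.id_comp]), by
    show m ≫ i = _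
    rw [hm, Hom.mul_def]; congr 1; ext <;> simp⟩
  letI grp : GrpObj N :=
    { inv := v
      left_inv := by
        rw [← cancel_mono i, Category.assoc, Category.assoc]
        show lift v (𝟙 N) ≫ m ≫ i = toUnit N ≫ e ≫ i
        rw [hone]
        rw [hm, MonObj.comp_mul, lift_fst_assoc, lift_snd_assoc, hv, Category.id_comp, inv_mul_cancel]
      right_inv := by
        rw [← cancel_mono i, Category.assoc, Category.assoc]
        show lift (𝟙 N) v ≫ m ≫ i = toUnit N ≫ e ≫ i
        rw [hone]
        rw [hm, MonObj.comp_mul, lift_fst_assoc, lift_snd_assoc, hv, Category.id_comp, mul_inv_cancel] }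
  exact ⟨grp, hmon⟩

/-- Closed conditions are tested on a schematically dominant morphism. -/
theorem exists_lift_of_dominant {T P H G : Scheme.{u}} (t : T ⟶ P) [IsSchemeTheoreticallyDominant t]
    (j : H ⟶ G) [IsClosedImmersion j] (z : P ⟶ G) (w : T ⟶ H) (hw : w ≫ j = t ≫ z) :
    ∃ l : P ⟶ H, l ≫ j = z := by
  have h : j.ker ≤ z.ker := by
    have h1 : (t ≫ z).ker = z.ker := by
      rw [Scheme.Hom.ker_comp, t.ker_eq_bot, Scheme.IdealSheafData.map_bot]
    rw [← h1, ← hw]
    exact Scheme.Hom.le_ker_comp w j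
  exact ⟨IsClosedImmersion.lift j z h, IsClosedImmersion.lift_fac j z h⟩

variable {X : Scheme.{u}} [IsIntegral X]

/-- The generic point of an open. -/
theorem generic_mem (U : X.Opens) (h : Dense (U : Set X)) : genericPoint X ∈ U :=
  (genericPoint_spec X).mem_open_set_iff U.2 |>.2 (by simpa using h.nonempty)

theorem exists_spreadOut (G : Over X) [GrpObj G] [IsAffineHom G.hom] [LocallyOfFinitePresentation G.hom]
    (Hη : Over (Spec X.functionField)) [GrpObj Hη]
    (i : Hη ⟶ Red.bc (X.fromSpecStalk (genericPoint X)) G) [IsMonHom i] [IsClosedImmersion i.left] :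
    ∃ (U : X.Opens) (ηU : Spec X.functionField ⟶ (U : Scheme.{u})) (HU : Over (U : Scheme.{u}))
      (_ : GrpObj HU) (j : HU ⟶ Red.bc U.ι G) (φ : Hη.left ⟶ HU.left),
      ηU ≫ U.ι = X.fromSpecStalk (genericPoint X) ∧ IsMonHom j ∧ IsClosedImmersion j.left ∧
      IsPullback φ Hη.hom HU.hom ηU ∧
      φ ≫ j.left ≫ pullback.fst G.hom U.ι = i.left ≫ pullback.fst G.hom (X.fromSpecStalk (genericPoint X)) := by
  let ηX : Spec X.functionField ⟶ X := X.fromSpecStalk (genericPoint X)
  haveI : Flat ηX := IntImage.flat_fromSpecStalk _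
  haveI : Mono ηX := inferInstanceAs (Mono (X.fromSpecStalk (genericPoint X)))
  haveI : QuasiCompact ηX := ⟨fun O _ _ => by
    have : Subsingleton ↥(Spec X.functionField) := inferInstanceAs (Subsingleton (PrimeSpectrum X.functionField))
    exact (Set.subsingleton_of_subsingleton.finite).isCompact⟩
  let e : Hη.left ⟶ G.left := i.left ≫ pullback.fst G.hom ηX
  haveI : IsClosedImmersion (i.left : Hη.left ⟶ pullback G.hom ηX) := ‹IsClosedImmersion i.left›
  haveI : QuasiCompact e := inferInstance
  haveI : IsSchemeTheoreticallyDominant e.toImage := SchDenseLib.toImage_dominant e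
  let g : e.image ⟶ X := e.imageι ≫ G.hom
  obtain ⟨U, hU, hflat, -⟩ := Groth.Agent.S0414.result g
  have hη : genericPoint X ∈ U := generic_mem U hU
  let ηU : Spec X.functionField ⟶ (U : Scheme.{u}) := U.fromSpecStalkOfMem (genericPoint X) hη
  have hηU : ηU ≫ U.ι = ηX := U.fromSpecStalkOfMem_ι _ hη
  haveI : IsDominant ηU := ⟨by
    rw [denseRange_iff_closure_range, ← Set.univ_subset_iff]
    rintro u -
    obtain ⟨x, hx⟩ := (Set.ext_iff.1 (X.range_fromSpecStalk (x := genericPoint X)) (genericPoint X)).2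
      (specializes_refl _)
    refine closure_mono (Set.singleton_subset_iff.2 (Set.mem_range_self x) : ({ηU x} : Set _) ⊆ Set.range ηU) ?_
    rw [← specializes_iff_mem_closure, ← U.ι.isOpenEmbedding.toIsInducing.specializes_iff]
    show U.ι (ηU x) ⤳ U.ι u
    rw [← Scheme.Hom.comp_apply, hηU, hx]
    exact genericPoint_specializes _⟩
  haveI : QuasiCompact ηU := ⟨fun O _ _ => by
    have : Subsingleton ↥(Spec X.functionField) := inferInstanceAs (Subsingleton (PrimeSpectrum X.functionField))
    exact (Set.subsingleton_of_subsingleton.finite).isCompact⟩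
  haveI : IsSchemeTheoreticallyDominant ηU := .of_isDominant _
  let HU : Over (U : Scheme.{u}) := Over.mk (pullback.snd g U.ι)
  haveI : Flat HU.hom := by
    have h := (isPullback_morphismRestrict g U).flip
    haveI := hflat
    show Flat (pullback.snd g U.ι)
    rw [← h.isoPullback_inv_snd]
    infer_instance
  let jl : pullback g U.ι ⟶ pullback G.hom U.ι :=
    pullback.lift (pullback.fst g U.ι ≫ e.imageι) (pullback.snd g U.ι) (by rw [Category.assoc]; exact pullback.condition)
  have hjl : IsClosedImmersion jl :=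
    MorphismProperty.of_isPullback
      (IsPullback.of_bot (v₁₁ := jl) (v₁₂ := e.imageι) (show IsPullback (pullback.fst g U.ι) (jl ≫ pullback.snd G.hom U.ι) (e.imageι ≫ G.hom) U.ι by
        rw [pullback.lift_snd]; exact IsPullback.of_hasPullback g U.ι)
        (pullback.lift_fst _ _ _).symm (IsPullback.of_hasPullback G.hom U.ι))
      (inferInstanceAs (IsClosedImmersion e.imageι))
  let j : HU ⟶ Red.bc U.ι G := Over.homMk jl (pullback.lift_snd _ _ _)
  haveI : IsClosedImmersion j.left := hjl
  haveI : Mono j := Over.mono_of_mono_left j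
  -- the generic fibre
  have hg0 : e.toImage ≫ g = Hη.hom ≫ ηX := by
    rw [← Category.assoc, Scheme.Hom.toImage_imageι]
    show (i.left ≫ pullback.fst G.hom ηX) ≫ G.hom = _
    rw [Category.assoc, pullback.condition, ← Category.assoc]
    exact congrArg (· ≫ ηX) (Over.w i)
  let l : Hη.left ⟶ pullback g ηX := pullback.lift e.toImage Hη.hom hg0
  let c : pullback g ηX ⟶ pullback G.hom ηX :=
    pullback.lift (pullback.fst g ηX ≫ e.imageι) (pullback.snd g ηX) (by rw [Category.assoc]; exact pullback.condition)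
  have hlc : l ≫ c = i.left := by
    refine pullback.hom_ext ?_ ?_
    · rw [Category.assoc, pullback.lift_fst, pullback.lift_fst_assoc, Scheme.Hom.toImage_imageι]
    · rw [Category.assoc, pullback.lift_snd, pullback.lift_snd]
      exact (Over.w i).symm
  haveI : IsClosedImmersion c :=
    MorphismProperty.of_isPullback
      (IsPullback.of_bot (v₁₁ := c) (v₁₂ := e.imageι) (show IsPullback (pullback.fst g ηX) (c ≫ pullback.snd G.hom ηX) (e.imageι ≫ G.hom) ηX by
        rw [pullback.lift_snd]; exact IsPullback.of_hasPullback g ηX)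
        (pullback.lift_fst _ _ _).symm (IsPullback.of_hasPullback G.hom ηX))
      (inferInstanceAs (IsClosedImmersion e.imageι))
  haveI : IsClosedImmersion l := by
    haveI : IsClosedImmersion (l ≫ c) := by rw [hlc]; infer_instance
    exact IsClosedImmersion.of_comp l c
  haveI : IsSchemeTheoreticallyDominant l := by
    have hl : l ≫ pullback.fst g ηX = e.toImage := pullback.lift_fst _ _ _
    have hsq : IsPullback (𝟙 Hη.left) l e.toImage (pullback.fst g ηX) := by
      refine IsPullback.of_isLimit' ⟨by rw [Category.id_comp, hl]⟩ (PullbackCone.IsLimit.mk _ (fun s => s.fst)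
        (fun s => Category.comp_id _) (fun s => ?_) (fun s m h1 _ => by simpa using h1))
      rw [← cancel_mono (pullback.fst g ηX), Category.assoc, hl]
      exact s.condition
    exact IsSchemeTheoreticallyDominant.of_isPullback hsq
  haveI : IsIso l := IsClosedImmersion.isIso_of_ker_eq l (𝟙 _) l (by simp) (by simp [l.ker_eq_bot])
  have hpb : IsPullback e.toImage Hη.hom g ηX :=
    IsPullback.of_iso_pullback ⟨hg0⟩ (asIso l) (pullback.lift_fst _ _ _) (pullback.lift_snd _ _ _)
  let φ : Hη.left ⟶ HU.left := pullback.lift e.toImage (Hη.hom ≫ ηU) (by rw [hg0, Category.assoc, hηU])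
  have hφ : IsPullback φ Hη.hom HU.hom ηU := by
    refine IsPullback.of_right (h₁₂ := pullback.fst g U.ι) ?_ (pullback.lift_snd _ _ _) (IsPullback.of_hasPullback g U.ι)
    rw [pullback.lift_fst, hηU]
    exact hpb
  have hφj : φ ≫ j.left ≫ pullback.fst G.hom U.ι = i.left ≫ pullback.fst G.hom ηX := by
    show φ ≫ jl ≫ _ = _
    rw [pullback.lift_fst, pullback.lift_fst_assoc, Scheme.Hom.toImage_imageι]
  -- points over the generic point
  let κ : ∀ T : Over (Spec X.functionField),
      (Over.map U.ι).obj ((Over.map ηU).obj T) ≅ (Over.map ηX).obj T :=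
    fun T => Over.isoMk (Iso.refl _) (by
      show 𝟙 _ ≫ T.hom ≫ ηX = (T.hom ≫ ηU) ≫ U.ι
      rw [Category.id_comp, Category.assoc, hηU])
  let Ψ : ∀ T : Over (Spec X.functionField), (T ⟶ Red.bc ηX G) → ((Over.map ηU).obj T ⟶ Red.bc U.ι G) :=
    fun T a => (Over.mapPullbackAdj U.ι).homEquiv _ _ ((κ T).hom ≫ ((Over.mapPullbackAdj ηX).homEquiv _ _).symm a)
  have hΨmul : ∀ T a b, Ψ T (a * b) = Ψ T a * Ψ T b := fun T a b => by
    simp only [Ψ]
    rw [← HomRep.homEquiv_mul, ← MonObj.comp_mul]
    congr 2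
    rw [Equiv.symm_apply_eq, HomRep.homEquiv_mul, Equiv.apply_symm_apply, Equiv.apply_symm_apply]
  have hΨone : ∀ T, Ψ T 1 = 1 := fun T => by
    have h := hΨmul T 1 1
    rw [_root_.mul_one] at h
    exact left_eq_mul.1 h |>.trans rfl
  have hΨfst : ∀ T a, (Ψ T a).left ≫ pullback.fst G.hom U.ι = a.left ≫ pullback.fst G.hom ηX := fun T a => by
    simp [Ψ, κ, Adjunction.homEquiv_unit, Adjunction.homEquiv_counit, Over.mapPullbackAdj]
  have hΨinv : ∀ T a, Ψ T a⁻¹ = (Ψ T a)⁻¹ := fun T a => by
    refine eq_inv_of_mul_eq_one_left ?_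
    rw [← hΨmul, inv_mul_cancel, hΨone]
  have hpt : ∀ (T : Over (Spec X.functionField)) (b : (Over.map ηU).obj T ⟶ HU),
      ∃ a : T ⟶ Hη, Ψ T (a ≫ i) = b ≫ j := fun T b => by
    have hb : b.left ≫ HU.hom = T.hom ≫ ηU := Over.w b
    refine ⟨Over.homMk (hφ.lift b.left T.hom hb) (hφ.lift_snd _ _ _), Over.OverMorphism.ext (pullback.hom_ext ?_ ?_)⟩
    · rw [hΨfst]
      show (hφ.lift b.left T.hom hb ≫ i.left) ≫ _ = (b.left ≫ j.left) ≫ _
      rw [Category.assoc, Category.assoc, ← hφj, hφ.lift_fst_assoc]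
    · exact (Over.w (Ψ T _)).trans (Over.w (b ≫ j)).symm
  have hback : ∀ (T : Over (Spec X.functionField)) (a : T ⟶ Hη),
      ∃ w : (Over.map ηU).obj T ⟶ HU, w ≫ j = Ψ T (a ≫ i) := fun T a => by
    refine ⟨Over.homMk (a.left ≫ φ) ?_, Over.OverMorphism.ext (pullback.hom_ext ?_ ?_)⟩
    · show (a.left ≫ φ) ≫ HU.hom = T.hom ≫ ηU
      rw [Category.assoc, hφ.w, ← Category.assoc]
      exact congrArg (· ≫ ηU) (Over.w a)
    · rw [hΨfst]
      show ((a.left ≫ φ) ≫ j.left) ≫ _ = (a.left ≫ i.left) ≫ _
      rw [Category.assoc, Category.assoc, Category.assoc, hφj]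
    · exact (Over.w (_ ≫ j)).trans (Over.w (Ψ T (a ≫ i))).symm
  -- extension from the generic fibre
  let res : ∀ P : Over (U : Scheme.{u}), (Over.map ηU).obj (Over.mk (pullback.snd P.hom ηU)) ⟶ P :=
    fun P => Over.homMk (pullback.fst P.hom ηU) pullback.condition
  have ext : ∀ (P : Over (U : Scheme.{u})) [Flat P.hom] (z : P ⟶ Red.bc U.ι G) (w : (Over.map ηU).obj _ ⟶ HU),
      w ≫ j = res P ≫ z → ∃ m : P ⟶ HU, m ≫ j = z := fun P _ z w hw => by
    haveI : IsSchemeTheoreticallyDominant (res P).left :=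
      inferInstanceAs (IsSchemeTheoreticallyDominant (pullback.fst P.hom ηU))
    obtain ⟨m, hm⟩ := exists_lift_of_dominant (res P).left j.left z.left w.left (congrArg CommaMorphism.left hw)
    refine ⟨Over.homMk m ?_, Over.OverMorphism.ext hm⟩
    rw [← Over.w j, ← Category.assoc, hm, Over.w z]
  obtain ⟨grp, hmon⟩ := exists_grpObj_of_mono j (by
      haveI : Flat (𝟙_ (Over (U : Scheme.{u}))).hom := inferInstanceAs (Flat (𝟙 _))
      obtain ⟨w, hw⟩ := hback (Over.mk (pullback.snd (𝟙_ (Over (U : Scheme.{u}))).hom ηU)) 1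
      refine ext _ 1 w ?_
      rw [hw, MonObj.one_comp, hΨone, MonObj.comp_one]) (by
      haveI : Flat (HU ⊗ HU).hom := inferInstanceAs (Flat (pullback.fst HU.hom HU.hom ≫ HU.hom))
      obtain ⟨a, ha⟩ := hpt _ (res (HU ⊗ HU) ≫ fst HU HU)
      obtain ⟨b, hb⟩ := hpt _ (res (HU ⊗ HU) ≫ snd HU HU)
      obtain ⟨w, hw⟩ := hback _ (a * b)
      refine ext _ _ w ?_
      rw [hw, MonObj.mul_comp, hΨmul, ha, hb, MonObj.comp_mul, Category.assoc, Category.assoc]) (by
      obtain ⟨a, ha⟩ := hpt _ (res HU ≫ 𝟙 HU)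
      obtain ⟨w, hw⟩ := hback _ a⁻¹
      refine ext _ _ w ?_
      rw [hw, GrpObj.inv_comp, hΨinv, ha, Category.comp_id, GrpObj.comp_inv])
  exact ⟨U, ηU, HU, grp, j, φ, hηU, hmon, hjl, hφ, hφj⟩

end Groth.Agent.SubgrpSpreadLib
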